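import Mathlib.RingTheory.Etale.Field
import Mathlib.RingTheory.Etale.Kaehler
import Mathlib.RingTheory.Kaehler.Polynomial
import Mathlib.RingTheory.AlgebraicIndependent.Adjoin
import Mathlib.RingTheory.AlgebraicIndependent.TranscendenceBasis
import Mathlib.RingTheory.AlgebraicIndependent.Transcendental
import Mathlib.RingTheory.TensorProduct.Free
import Mathlib.FieldTheory.Perfect

/-!
# Differentials of separably generated field extensions
-/

universe u v w

open scoped TensorProduct

namespace Groth.Agent.OmegaField

variable (K : Type u) (L : Type v) [Field K] [Field L] [Algebra K L]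

/-- The differentials of a separating transcendence basis form a basis. -/
theorem exists_basis {ι : Type w} (a : ι → L) (ha : AlgebraicIndependent K a)
    (hsep : Algebra.IsSeparable ↥(IntermediateField.adjoin K (Set.range a)) L) :
    ∃ b : Module.Basis ι L (Ω[L⁄K]), ∀ i, b i = KaehlerDifferential.D K L (a i) := by
  let P := MvPolynomial ι K
  let F := FractionRing P
  let e : F ≃ₐ[K] ↥(IntermediateField.adjoin K (Set.range a)) := ha.aevalEquivField
  let σ : F →ₐ[K] L := (IntermediateField.adjoin K (Set.range a)).val.comp e.toAlgHom
  letI : Algebra F L := σ.toRingHom.toAlgebra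
  letI : Algebra P L := (MvPolynomial.aeval a).toRingHom.toAlgebra
  have : IsScalarTower K F L := IsScalarTower.of_algebraMap_eq fun x => (σ.commutes x).symm
  have : IsScalarTower K P L := IsScalarTower.of_algebraMap_eq fun x => ((MvPolynomial.aeval a).commutes x).symm
  have : IsScalarTower P F L := IsScalarTower.of_algebraMap_eq fun p =>
    (ha.aevalEquivField_algebraMap_apply_coe p).symm
  have : Algebra.IsSeparable F L :=
    Algebra.IsSeparable.of_equiv_equiv (A₁ := ↥(IntermediateField.adjoin K (Set.range a))) (B₁ := L)
      e.symm.toRingEquiv (RingEquiv.refl L) (RingHom.ext fun x => congrArg Subtype.val (e.apply_symm_apply x))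
  have : Algebra.FormallyEtale P F := Algebra.FormallyEtale.of_isLocalization (nonZeroDivisors P)
  have : Algebra.FormallyEtale F L := Algebra.FormallyEtale.of_isSeparable F L
  have : Algebra.FormallyEtale P L := Algebra.FormallyEtale.comp P F L
  let b := (Algebra.TensorProduct.basis L (KaehlerDifferential.mvPolynomialBasis K ι)).map
    (KaehlerDifferential.tensorKaehlerEquivOfFormallyEtale K P L)
  refine ⟨b, fun i => ?_⟩
  rw [Module.Basis.map_apply, Algebra.TensorProduct.basis_apply, KaehlerDifferential.mvPolynomialBasis_apply,
    KaehlerDifferential.tensorKaehlerEquivOfFormallyEtale_apply, KaehlerDifferential.mapBaseChange_tmul,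
    one_smul, KaehlerDifferential.map_D]
  congr 1
  exact MvPolynomial.aeval_X a i

theorem finrank_kaehler {n : ℕ} (a : Fin n → L) (ha : AlgebraicIndependent K a)
    (hsep : Algebra.IsSeparable ↥(IntermediateField.adjoin K (Set.range a)) L) :
    Module.finrank L (Ω[L⁄K]) = n := by
  obtain ⟨b, -⟩ := exists_basis K L a ha hsep
  rw [Module.finrank_eq_card_basis b, Fintype.card_fin]

/-- In characteristic zero only algebraic elements have vanishing differential. -/
theorem isAlgebraic_of_D_eq_zero [CharZero K] (f : L) (hf : KaehlerDifferential.D K L f = 0) :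
    IsAlgebraic K f := by
  by_contra hne
  have hind : AlgebraicIndepOn K id ({f} : Set L) := by
    rw [AlgebraicIndepOn, algebraicIndependent_unique_type_iff]
    exact hne
  obtain ⟨t, ht, hT⟩ := exists_isTranscendenceBasis_superset hind
  have := hT.isAlgebraic_field
  obtain ⟨b, hb⟩ := exists_basis K L ((↑) : t → L) hT.1 inferInstance
  exact b.ne_zero ⟨f, ht rfl⟩ ((hb _).trans hf)

end Groth.Agent.OmegaField
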